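import Groth.Agent.PicLoc.K727.AlgColim
import Groth.Agent.PicLoc.K728.WLoc
import Groth.Agent.S10862

/-!
# Normal domains as unions of normal algebras of finite type

* `exists_normal`: a finitely generated subalgebra of a normal domain (over a field) lies in a normal finitely generated
  subalgebra;
* `exists_of_ft`: reduction to finite type for the cartesian square of a map `r : F ⟶ F'` of limit preserving presheaves
  at a normal domain `A` and its fraction field.
-/

set_option autoImplicit false
set_option linter.style.haveILetI false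
universe u
open CategoryTheory CategoryTheory.Limits AlgebraicGeometry Opposite

namespace K265.NormLim

section algebra

variable (k : Type u) [Field k] {A : Type u} [CommRing A] [IsDomain A] [Algebra k A]

/-- A finitely generated subalgebra of a normal domain lies in a normal finitely generated subalgebra. -/
theorem exists_normal [IsIntegrallyClosed A] (S : Subalgebra k A) (hS : S.FG) :
    ∃ B : Subalgebra k A, S ≤ B ∧ B.FG ∧ IsIntegrallyClosed B := by
  let K := FractionRing A
  let F := FractionRing S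
  have hft : Algebra.FiniteType k S := (Subalgebra.fg_iff_finiteType S).1 hS
  have hinj : Function.Injective (algebraMap S K) :=
    (IsFractionRing.injective A K).comp Subtype.val_injective
  letI : Algebra F K := (IsFractionRing.lift hinj).toAlgebra
  haveI : IsScalarTower S F K := IsScalarTower.of_algebraMap_eq fun x => (IsFractionRing.lift_algebraMap hinj x).symm
  let C := integralClosure S F
  have hfin : Module.Finite S C := Groth.Agent.S10862.result k S F F
  have hIC : IsIntegrallyClosed C := integralClosure.isIntegrallyClosedOfFiniteExtension F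
  haveI : Algebra.FiniteType S C := inferInstance
  have hCft : Algebra.FiniteType k C := Algebra.FiniteType.trans (S := S) inferInstance inferInstance
  have hex : ∀ x : C, ∃ a : A, algebraMap A K a = algebraMap F K x := by
    intro x
    have h1 : IsIntegral S (algebraMap F K (x : F)) := (x.2 : IsIntegral S (x : F)).algebraMap
    have h2 : IsIntegral A (algebraMap F K (x : F)) := h1.tower_top
    exact IsIntegrallyClosed.algebraMap_eq_of_integral h2
  choose g hg using hex
  have hAK := IsFractionRing.injective A K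
  let G : C →ₐ[k] A :=
    { toFun := g
      map_one' := hAK (by rw [hg, map_one]; exact map_one _)
      map_mul' := fun x y => hAK (by rw [hg, map_mul, hg, hg]; exact map_mul _ _ _)
      map_zero' := hAK (by rw [hg, map_zero]; exact map_zero _)
      map_add' := fun x y => hAK (by rw [hg, map_add, hg, hg]; exact map_add _ _ _)
      commutes' := fun r => hAK (by
        rw [hg, ← IsScalarTower.algebraMap_apply k A K]
        change algebraMap F K (algebraMap k F r) = _
        rw [IsScalarTower.algebraMap_apply k S F, ← IsScalarTower.algebraMap_apply S F K,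
          ← IsScalarTower.algebraMap_apply k S K]) }
  have hGi : Function.Injective G := by
    intro x y hxy
    apply Subtype.ext
    apply (algebraMap F K).injective
    rw [← hg, ← hg]
    exact congrArg _ hxy
  refine ⟨G.range, ?_, ?_, ?_⟩
  · intro s hs
    refine ⟨algebraMap S C ⟨s, hs⟩, hAK ?_⟩
    refine (hg _).trans ?_
    change algebraMap F K (algebraMap S F ⟨s, hs⟩) = _
    rw [← IsScalarTower.algebraMap_apply S F K]
    rfl
  · exact (Subalgebra.fg_iff_finiteType _).2 (Algebra.FiniteType.of_surjective G.rangeRestrict G.rangeRestrict_surjective)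
  · exact IsIntegrallyClosed.of_equiv (AlgEquiv.ofInjective G hGi).toRingEquiv

/-- A lift of a subalgebra along an injective map. -/
theorem exists_lift {C K : Type u} [CommRing C] [CommRing K] [Algebra k C] [Algebra k K] (ψ : C →ₐ[k] K)
    (hψ : Function.Injective ψ) (T : Subalgebra k K) (hT : T ≤ ψ.range) :
    ∃ τ : T →ₐ[k] C, ψ.comp τ = T.val := by
  refine ⟨((AlgEquiv.ofInjective ψ hψ).symm : ψ.range →ₐ[k] C).comp (Subalgebra.inclusion hT), ?_⟩
  ext x
  change ψ ((AlgEquiv.ofInjective ψ hψ).symm (Subalgebra.inclusion hT x)) = x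
  have h := congrArg Subtype.val ((AlgEquiv.ofInjective ψ hψ).apply_symm_apply (Subalgebra.inclusion hT x))
  exact h

variable {k}

/-- The map `B_a → Frac A`. -/
noncomputable def toFrac (B : Subalgebra k A) (a : B) (ha : a ≠ 0) : Localization.Away a →ₐ[k] FractionRing A :=
  IsLocalization.liftAlgHom (M := Submonoid.powers a)
    (f := (IsScalarTower.toAlgHom k A (FractionRing A)).comp B.val) (by
      rintro ⟨_, n, rfl⟩
      refine IsUnit.mk0 _ ?_
      change algebraMap A (FractionRing A) ((a ^ n : B) : A) ≠ 0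
      rw [Ne, map_eq_zero_iff _ (IsFractionRing.injective A (FractionRing A))]
      exact fun h => pow_ne_zero n ha (Subtype.ext h))

theorem toFrac_algebraMap (B : Subalgebra k A) (a : B) (ha : a ≠ 0) (b : B) :
    toFrac B a ha (algebraMap B (Localization.Away a) b) = algebraMap A (FractionRing A) b :=
  IsLocalization.lift_eq _ _

theorem toFrac_comp (B : Subalgebra k A) (a : B) (ha : a ≠ 0) :
    (toFrac B a ha).comp (IsScalarTower.toAlgHom k B (Localization.Away a)) =
      (IsScalarTower.toAlgHom k A (FractionRing A)).comp B.val := by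
  ext b
  exact toFrac_algebraMap B a ha b

theorem toFrac_injective (B : Subalgebra k A) (a : B) (ha : a ≠ 0) : Function.Injective (toFrac B a ha) := by
  rw [injective_iff_map_eq_zero]
  intro x hx
  obtain ⟨⟨b, s⟩, hb⟩ := IsLocalization.surj (Submonoid.powers a) x
  have h1 : algebraMap A (FractionRing A) b = 0 := by
    rw [← toFrac_algebraMap B a ha, ← hb, map_mul, hx, zero_mul]
  have h2 : b = 0 := by
    rw [map_eq_zero_iff _ (IsFractionRing.injective A (FractionRing A))] at h1
    exact Subtype.ext h1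
  rw [h2, map_zero] at hb
  exact (IsLocalization.map_units (Localization.Away a) s).mul_left_eq_zero.1 hb

/-- An element of `Frac A` of the form `b / a^n`. -/
theorem mem_range_toFrac (B : Subalgebra k A) (a : B) (ha : a ≠ 0) (x : FractionRing A) (b : B) (n : ℕ)
    (h : algebraMap A (FractionRing A) b = algebraMap A (FractionRing A) (a ^ n : B) * x) :
    x ∈ (toFrac B a ha).range := by
  refine ⟨IsLocalization.mk' (Localization.Away a) b (⟨a ^ n, n, rfl⟩ : Submonoid.powers a), ?_⟩
  change toFrac B a ha _ = x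
  have h1 := IsLocalization.mk'_spec' (Localization.Away a) b (⟨a ^ n, n, rfl⟩ : Submonoid.powers a)
  have h2 := congrArg (toFrac B a ha) h1
  rw [map_mul, toFrac_algebraMap, toFrac_algebraMap, h] at h2
  refine mul_left_cancel₀ ?_ h2
  rw [Ne, map_eq_zero_iff _ (IsFractionRing.injective A (FractionRing A))]
  exact fun h => pow_ne_zero n ha (Subtype.ext h)

/-- A finitely generated subalgebra of the fraction field lies in some `B_a`. -/
theorem exists_den (T : Subalgebra k (FractionRing A)) (hT : T.FG) (S : Subalgebra k A) (hS : S.FG) (s : A) (hs : s ≠ 0) :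
    ∃ (B : Subalgebra k A) (a : B) (_ : a ≠ 0), S ≤ B ∧ B.FG ∧ s ∣ a ∧
      ∀ (C : Subalgebra k A) (hC : B ≤ C) (hc : Subalgebra.inclusion hC a ≠ 0),
        T ≤ (toFrac C (Subalgebra.inclusion hC a) hc).range := by
  obtain ⟨t, rfl⟩ := hT
  classical
  obtain ⟨d, hd⟩ := IsLocalization.exist_integer_multiples_of_finset (nonZeroDivisors A) t
  have hd0 : (d : A) ≠ 0 := nonZeroDivisors.ne_zero d.2
  choose! g hg using hd
  let B : Subalgebra k A := S ⊔ Algebra.adjoin k (insert (s : A) (insert (d : A) ((t.image g : Finset A) : Set A)))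
  have hm : ∀ x ∈ insert (s : A) (insert (d : A) ((t.image g : Finset A) : Set A)), x ∈ B := fun x hx =>
    (le_sup_right : _ ≤ B) (Algebra.subset_adjoin hx)
  have hsB : s ∈ B := hm _ (Set.mem_insert _ _)
  have hdB : (d : A) ∈ B := hm _ (Set.mem_insert_of_mem _ (Set.mem_insert _ _))
  refine ⟨B, ⟨s, hsB⟩ * ⟨d, hdB⟩, ?_, le_sup_left, ?_, ⟨d, rfl⟩, ?_⟩
  · intro h
    have := congrArg Subtype.val h
    exact (mul_ne_zero hs hd0) this
  · refine hS.sup ?_
    exact Subalgebra.fg_def.2 ⟨_, ((Finset.finite_toSet _).insert _).insert _, rfl⟩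
  · intro C hC hc
    refine Algebra.adjoin_le fun x hx => ?_
    have hgx := hg x hx
    have hgB : g x ∈ B := hm _ (Set.mem_insert_of_mem _ (Set.mem_insert_of_mem _ (by
      rw [Finset.mem_coe, Finset.mem_image]
      exact ⟨x, hx, rfl⟩)))
    refine mem_range_toFrac C _ hc x (⟨s, hC hsB⟩ * ⟨g x, hC hgB⟩) 1 ?_
    change algebraMap A (FractionRing A) (s * g x) = algebraMap A (FractionRing A) ((s * d) ^ 1) * x
    rw [pow_one, map_mul, map_mul, hgx, mul_assoc, Algebra.smul_def]

end algebra

section limits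

variable {k : Type u} [Field k]

/-- Restriction along a map of algebras. -/
noncomputable abbrev mp (F : AlgSp.PSp (PicLoc.base k)) {A B : Type u} [CommRing A] [CommRing B] [Algebra k A] [Algebra k B]
    (φ : A →ₐ[k] B) (ξ : F.obj (op (PicLoc.spc k A))) : F.obj (op (PicLoc.spc k B)) :=
  F.map (PicLoc.spcMap k φ).op ξ

theorem mp_comp (F : AlgSp.PSp (PicLoc.base k)) {A B C : Type u} [CommRing A] [CommRing B] [CommRing C] [Algebra k A]
    [Algebra k B] [Algebra k C] (φ : A →ₐ[k] B) (ψ : B →ₐ[k] C) (ξ : F.obj (op (PicLoc.spc k A))) :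
    mp F ψ (mp F φ ξ) = mp F (ψ.comp φ) ξ := by
  have e : PicLoc.spcMap k (ψ.comp φ) = PicLoc.spcMap k ψ ≫ PicLoc.spcMap k φ :=
    (algSpec (CommRingCat.of k)).map_comp (CommAlgCat.ofHom ψ).op (CommAlgCat.ofHom φ).op
  rw [mp, mp, mp, e, op_comp, Functor.map_comp_apply]

theorem mp_nat {F F' : AlgSp.PSp (PicLoc.base k)} (r : F ⟶ F') {A B : Type u} [CommRing A] [CommRing B] [Algebra k A]
    [Algebra k B] (φ : A →ₐ[k] B) (ξ : F.obj (op (PicLoc.spc k A))) :
    r.app _ (mp F φ ξ) = mp F' φ (r.app _ ξ) :=
  NatTrans.naturality_apply r _ ξ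

/-- Sections over `A` come from finitely generated subalgebras. -/
theorem exists_sub (F : AlgSp.PSp (PicLoc.base k)) (hF : AlgSp.IsLimitPreserving F) (A : Type u) [CommRing A]
    [Algebra k A] (x : F.obj (op (PicLoc.spc k A))) :
    ∃ (S : Subalgebra k A) (_ : S.FG) (x₀ : F.obj (op (PicLoc.spc k S))), mp F S.val x₀ = x := by
  obtain ⟨B, x₀, hx₀⟩ := K727.AlgColim.exists_rep (K728.WLoc.isColimit_fgAlgCocone (CommAlgCat.of k A)).some F hF x
  exact ⟨B.1, B.2, x₀, hx₀⟩

/-- Sections over a finitely generated subalgebra which agree over `A` agree over a larger one. -/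
theorem exists_sub_eq (F : AlgSp.PSp (PicLoc.base k)) (hF : AlgSp.IsLimitPreserving F) (A : Type u) [CommRing A]
    [Algebra k A] (S : Subalgebra k A) (hS : S.FG) (x y : F.obj (op (PicLoc.spc k S)))
    (h : mp F S.val x = mp F S.val y) :
    ∃ (T : Subalgebra k A) (_ : T.FG) (hST : S ≤ T),
      mp F (Subalgebra.inclusion hST) x = mp F (Subalgebra.inclusion hST) y := by
  obtain ⟨T, g, hT⟩ := K727.AlgColim.exists_eq (K728.WLoc.isColimit_fgAlgCocone (CommAlgCat.of k A)).some F hF
    (j := ⟨S, hS⟩) x y h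
  exact ⟨T.1, T.2, g.le, hT⟩

/-- Reduction of the cartesian square at a normal domain to algebras of finite type. -/
theorem exists_of_ft {F F' : AlgSp.PSp (PicLoc.base k)} (hF : AlgSp.IsLimitPreserving F)
    (hF' : AlgSp.IsLimitPreserving F') (r : F ⟶ F')
    (hFE : ∀ (B : Type u) [CommRing B] [IsDomain B] [IsIntegrallyClosed B] [Algebra k B] [Algebra.FiniteType k B]
      (a : B) (_ : a ≠ 0) (c' : F.obj (op (PicLoc.spc k (Localization.Away a)))) (cV : F'.obj (op (PicLoc.spc k B)))
      (_ : r.app _ c' = F'.map (PicLoc.spcMap k (IsScalarTower.toAlgHom k B (Localization.Away a))).op cV),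
      ∃ c : F.obj (op (PicLoc.spc k B)),
        F.map (PicLoc.spcMap k (IsScalarTower.toAlgHom k B (Localization.Away a))).op c = c' ∧ r.app _ c = cV)
    (A : Type u) [CommRing A] [IsDomain A] [IsIntegrallyClosed A] [Algebra k A]
    (cK : F.obj (op (PicLoc.spc k (FractionRing A)))) (cV : F'.obj (op (PicLoc.spc k A)))
    (h : r.app _ cK = F'.map (PicLoc.spcMap k (IsScalarTower.toAlgHom k A (FractionRing A))).op cV) :
    ∃ c : F.obj (op (PicLoc.spc k A)),
      F.map (PicLoc.spcMap k (IsScalarTower.toAlgHom k A (FractionRing A))).op c = cK ∧ r.app _ c = cV := by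
  obtain ⟨S₁, hS₁, v₁, rfl⟩ := exists_sub F' hF' A cV
  obtain ⟨T₁, hT₁, x₁, rfl⟩ := exists_sub F hF (FractionRing A) cK
  obtain ⟨B₂, a₂, ha₂, hSB₂, hB₂, -, hT₂⟩ := exists_den T₁ hT₁ S₁ hS₁ 1 one_ne_zero
  -- equality over a finitely generated subalgebra of the fraction field
  let ι := IsScalarTower.toAlgHom k A (FractionRing A)
  have hι : Function.Injective ι := IsFractionRing.injective A (FractionRing A)
  let T₂ : Subalgebra k (FractionRing A) := T₁ ⊔ S₁.map ι
  have hT₂fg : T₂.FG := hT₁.sup (hS₁.map _)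
  have h1 : T₁ ≤ T₂ := le_sup_left
  have h2 : S₁.map ι ≤ T₂ := le_sup_right
  let σ : S₁ →ₐ[k] T₂ := (ι.comp S₁.val).codRestrict T₂ fun x => h2 ⟨x, x.2, rfl⟩
  have hσ : T₂.val.comp σ = ι.comp S₁.val := rfl
  have h3 : mp F' T₂.val (r.app _ (mp F (Subalgebra.inclusion h1) x₁)) = mp F' T₂.val (mp F' σ v₁) := by
    rw [← mp_nat, mp_comp, mp_comp, hσ]
    have h' : r.app _ (mp F T₁.val x₁) = mp F' ι (mp F' S₁.val v₁) := h
    rw [mp_comp] at h'
    exact h'
  obtain ⟨T₃, hT₃, h23, h4⟩ := exists_sub_eq F' hF' (FractionRing A) T₂ hT₂fg _ _ h3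
  obtain ⟨B₃, a₃, ha₃, hSB₃, hB₃, -, hT₃'⟩ := exists_den T₃ hT₃ S₁ hS₁ 1 one_ne_zero
  obtain ⟨B, hB₃B, hB, hBn⟩ := exists_normal k B₃ hB₃
  let a : B := Subalgebra.inclusion hB₃B a₃
  have ha : a ≠ 0 := fun h => ha₃ (Subalgebra.inclusion_injective hB₃B (h.trans (map_zero _).symm))
  have hft : Algebra.FiniteType k B := (Subalgebra.fg_iff_finiteType B).1 hB
  have hle : T₃ ≤ (toFrac B a ha).range := hT₃' B hB₃B ha
  obtain ⟨τ, hτ⟩ := exists_lift k (toFrac B a ha) (toFrac_injective B a ha) T₃ hle
  let loc := IsScalarTower.toAlgHom k B (Localization.Away a)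
  have hSB : S₁ ≤ B := hSB₃.trans hB₃B
  have h13 : T₁ ≤ T₃ := h1.trans h23
  have e1 : τ.comp ((Subalgebra.inclusion h23).comp σ) = loc.comp (Subalgebra.inclusion hSB) := by
    ext x
    apply toFrac_injective B a ha
    change ((toFrac B a ha).comp τ) _ = ((toFrac B a ha).comp loc) _
    rw [hτ, toFrac_comp]
    rfl
  have h5 : r.app _ (mp F τ (mp F (Subalgebra.inclusion h13) x₁)) =
      F'.map (PicLoc.spcMap k loc).op (mp F' (Subalgebra.inclusion hSB) v₁) := by
    change _ = mp F' loc (mp F' (Subalgebra.inclusion hSB) v₁)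
    rw [mp_comp F' (Subalgebra.inclusion hSB) loc, ← e1, ← mp_comp F' _ τ, ← mp_comp F' σ, ← h4, mp_nat]
    congr 1
    rw [← mp_nat, mp_comp]
    rfl
  obtain ⟨c, hc1, hc2⟩ := hFE B a ha _ _ h5
  refine ⟨mp F B.val c, ?_, ?_⟩
  · change mp F ι (mp F B.val c) = mp F T₁.val x₁
    have hc1' : mp F loc c = mp F τ (mp F (Subalgebra.inclusion h13) x₁) := hc1
    rw [mp_comp, ← toFrac_comp B a ha, ← mp_comp, hc1', mp_comp, mp_comp, hτ]
    rfl
  · rw [mp_nat, hc2, mp_comp]
    rfl

end limits

end K265.NormLim
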