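import Groth.Prelude.Def_PicLoc2
import Groth.Agent.Ega4B.DepthTransfer
import Groth.Agent.PicLoc.K265.RepTrans

/-!
Local rings of the reduction of a scheme and the condition (N) for the reduction.
-/

set_option autoImplicit false

universe u

open CategoryTheory CategoryTheory.Limits AlgebraicGeometry Opposite

namespace K265.RedN

theorem isReduced_nilradical (X : Scheme.{u}) : IsReduced X.nilradical.subscheme := by
  have : ∀ i, IsReduced (X.nilradical.subschemeCover.openCover.X i) := by
    intro U
    have h1 : _root_.IsReduced (Γ(X, U.1) ⧸ X.nilradical.ideal U) := by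
      rw [← Ideal.isRadical_iff_quotient_reduced]
      exact Ideal.radical_isRadical _
    exact inferInstanceAs (IsReduced (Spec (CommRingCat.of (Γ(X, U.1) ⧸ X.nilradical.ideal U))))
  exact IsReduced.of_openCover _ X.nilradical.subschemeCover.openCover

theorem surjective_nilradical (X : Scheme.{u}) : Surjective X.nilradical.subschemeι := by
  refine ⟨Set.range_eq_univ.mp ?_⟩
  rw [Scheme.IdealSheafData.range_subschemeι, Scheme.support_nilradical]
  rfl

theorem ker_app_le_nilradical {Y Y' : Scheme.{u}} (iY : Y ⟶ Y') [Surjective iY] (U : Y'.Opens)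
    (hU : IsAffineOpen U) : RingHom.ker (iY.app U).hom ≤ nilradical Γ(Y', U) := by
  intro a ha
  rw [mem_nilradical, Scheme.isNilpotent_iff_basicOpen_eq_bot_of_isCompact hU.isCompact]
  have h1 : iY ⁻¹ᵁ (Y'.basicOpen a) = ⊥ := by
    rw [Scheme.preimage_basicOpen, show iY.app U a = 0 from ha, Scheme.basicOpen_zero]
  apply le_bot_iff.mp
  intro y hy
  obtain ⟨x, rfl⟩ := iY.surjective y
  have : x ∈ iY ⁻¹ᵁ (Y'.basicOpen a) := hy
  rw [h1] at this
  exact this.elim

/-- The kernel on local rings of a surjective closed immersion consists of nilpotent elements. -/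
theorem ker_stalkMap_le {Y X : Scheme.{u}} (i : Y ⟶ X) [IsClosedImmersion i] [Surjective i] (y : Y) :
    RingHom.ker (i.stalkMap y).hom ≤ nilradical (X.presheaf.stalk (i y)) := by
  intro a ha
  rw [RingHom.mem_ker] at ha
  obtain ⟨U, hyU, s, rfl⟩ := X.presheaf.exists_germ_eq a
  have h1 : (Y.presheaf.germ (i ⁻¹ᵁ U) y hyU) ((i.app U) s) = 0 := by
    have h := Scheme.Hom.germ_stalkMap_apply i U y hyU s
    rw [← ha]
    exact h.symm
  obtain ⟨V', hyV', iU, iV, hV'⟩ := Y.presheaf.germ_eq (U := i ⁻¹ᵁ U) (V := i ⁻¹ᵁ U) y hyU hyU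
    ((i.app U) s) 0 (by rw [h1, map_zero])
  rw [map_zero] at hV'
  obtain ⟨V, hV, hVV'⟩ := (i.isClosedEmbedding.isInducing.isOpen_iff).mp V'.isOpen
  have hyV : i y ∈ (⟨V, hV⟩ : X.Opens) := by
    have : y ∈ i ⁻¹' V := by rw [hVV']; exact hyV'
    exact this
  obtain ⟨W, hWaff, hyW, hWle⟩ := exists_isAffineOpen_mem_and_subset
    (x := i y) (U := (⟨V, hV⟩ : X.Opens) ⊓ U) ⟨hyV, hyU⟩
  have hWU : W ≤ U := fun z hz => (hWle hz).2
  have hWV : i ⁻¹ᵁ W ≤ V' := by
    intro z hz
    have h2 : i z ∈ V := (hWle hz).1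
    have h3 : z ∈ i ⁻¹' V := h2
    rw [hVV'] at h3
    exact h3
  have h2 : i.app W (X.presheaf.map (homOfLE hWU).op s) = 0 := by
    have hn := congrArg (fun t => t.hom s) (i.naturality (homOfLE hWU).op)
    refine Eq.trans hn ?_
    have h3 : Y.presheaf.map (homOfLE hWV).op (Y.presheaf.map iU.op ((i.app U) s)) = 0 := by
      rw [hV', map_zero]
    rw [← CategoryTheory.comp_apply, ← Functor.map_comp] at h3
    exact h3
  have h3 : X.presheaf.map (homOfLE hWU).op s ∈ nilradical Γ(X, W) :=
    ker_app_le_nilradical i W hWaff h2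
  have h4 : X.presheaf.germ W (i y) hyW (X.presheaf.map (homOfLE hWU).op s) =
      X.presheaf.germ U (i y) hyU s := X.presheaf.germ_res_apply (homOfLE hWU) (i y) hyW s
  rw [← h4]
  rw [mem_nilradical] at h3 ⊢
  exact h3.map (X.presheaf.germ W (i y) hyW).hom

theorem ker_stalkMap_nilradical (X : Scheme.{u}) (y : X.nilradical.subscheme) :
    RingHom.ker (X.nilradical.subschemeι.stalkMap y).hom =
      nilradical (X.presheaf.stalk (X.nilradical.subschemeι y)) := by
  have := surjective_nilradical X
  have := isReduced_nilradical X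
  refine le_antisymm (ker_stalkMap_le _ y) ?_
  intro a ha
  rw [RingHom.mem_ker]
  rw [mem_nilradical] at ha
  exact (ha.map (X.nilradical.subschemeι.stalkMap y).hom).eq_zero

theorem surjective_stalkMap (X : Scheme.{u}) (y : X.nilradical.subscheme) :
    Function.Surjective (X.nilradical.subschemeι.stalkMap y).hom :=
  X.nilradical.subschemeι.stalkMap_surjective y

/-- The local ring of the reduction. -/
noncomputable def stalkEquiv (X : Scheme.{u}) (y : X.nilradical.subscheme) :
    (X.presheaf.stalk (X.nilradical.subschemeι y) ⧸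
      nilradical (X.presheaf.stalk (X.nilradical.subschemeι y))) ≃+*
      X.nilradical.subscheme.presheaf.stalk y :=
  (Ideal.quotEquivOfEq (ker_stalkMap_nilradical X y).symm).trans
    (RingHom.quotientKerEquivOfSurjective (surjective_stalkMap X y))

theorem stalkEquiv_mk (X : Scheme.{u}) (y : X.nilradical.subscheme)
    (a : X.presheaf.stalk (X.nilradical.subschemeι y)) :
    stalkEquiv X y (Ideal.Quotient.mk _ a) = (X.nilradical.subschemeι.stalkMap y).hom a := rfl

/-- The condition (N) for the reduction, from its form on `X`. -/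
theorem condN (X : Scheme.{u}) (y : X.nilradical.subscheme)
    (h : (∃ _ : IsDomain (X.presheaf.stalk (X.nilradical.subschemeι y) ⧸
          nilradical (X.presheaf.stalk (X.nilradical.subschemeι y))),
        IsDiscreteValuationRing (X.presheaf.stalk (X.nilradical.subschemeι y) ⧸
          nilradical (X.presheaf.stalk (X.nilradical.subschemeι y)))) ∨
      (2 : ℕ∞) ≤ LocCoh.depth (X.presheaf.stalk (X.nilradical.subschemeι y))
        (X.presheaf.stalk (X.nilradical.subschemeι y) ⧸
          nilradical (X.presheaf.stalk (X.nilradical.subschemeι y)))) :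
    (∃ _ : IsDomain (X.nilradical.subscheme.presheaf.stalk y),
        IsDiscreteValuationRing (X.nilradical.subscheme.presheaf.stalk y)) ∨
      (2 : ℕ∞) ≤ LocCoh.depth (X.nilradical.subscheme.presheaf.stalk y)
        (X.nilradical.subscheme.presheaf.stalk y) := by
  rcases h with ⟨h1, h2⟩ | h
  · have h3 : IsDomain (X.nilradical.subscheme.presheaf.stalk y) :=
      (stalkEquiv X y).symm.toMulEquiv.isDomain _
    exact Or.inl ⟨h3, IsDiscreteValuationRing.RingEquivClass.isDiscreteValuationRing (stalkEquiv X y)⟩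
  · right
    rw [Groth.Agent.Ega4B.DepthTransfer.depth_eq (X.nilradical.subschemeι.stalkMap y).hom
      (stalkEquiv X y).toAddEquiv ?_ (surjective_stalkMap X y)]
    · exact h
    · intro b n
      obtain ⟨n, rfl⟩ := Ideal.Quotient.mk_surjective n
      change stalkEquiv X y (b • Ideal.Quotient.mk _ n) = _ • stalkEquiv X y (Ideal.Quotient.mk _ n)
      change stalkEquiv X y (Ideal.Quotient.mk _ (b * n)) = _
      rw [stalkEquiv_mk, stalkEquiv_mk, map_mul]
      rfl

end K265.RedN
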